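import Groth.Agent.S2420
import Groth.Agent.Lib.SerrePn27.Twist
import Groth.Agent.Lib.Algz56.Embedding
import Groth.Agent.Lib.Kodaira.Tensor
import Groth.Agent.Lib.CMReg.Sequences
import Groth.Agent.Lib.RegSheaf.PullTwist
import Mathlib.NumberTheory.BernoulliPolynomials

/-!
# The Hilbert polynomial over an Artinian base

Induction on the number of coordinate opens missing the support: multiplication by a coordinate is an
isomorphism on its open, so kernel and cokernel are supported in one open fewer.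
-/

set_option autoImplicit false
set_option linter.style.haveILetI false
set_option backward.isDefEq.respectTransparency false

universe u

open CategoryTheory CategoryTheory.Limits AlgebraicGeometry TopologicalSpace
open GrothLib.SerrePn27 (Oi)

noncomputable section

namespace GrothLib.HilbArt9

/-- Every polynomial over `ℚ` is the difference of one. -/
theorem exists_antidiff (Q : Polynomial ℚ) :
    ∃ P : Polynomial ℚ, ∀ x : ℚ, P.eval (x + 1) - P.eval x = Q.eval x := by
  induction Q using Polynomial.induction_on' with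
  | add p q hp hq =>
    obtain ⟨P, hP⟩ := hp
    obtain ⟨P', hP'⟩ := hq
    exact ⟨P + P', fun x => by simp only [Polynomial.eval_add, ← hP x, ← hP' x]; ring⟩
  | monomial d c =>
    refine ⟨Polynomial.C (c / (d + 1)) * Polynomial.bernoulli (d + 1), fun x => ?_⟩
    simp only [Polynomial.eval_mul, Polynomial.eval_C, Polynomial.eval_monomial]
    rw [add_comm x 1, Polynomial.bernoulli_eval_one_add, Nat.add_sub_cancel]
    push_cast
    field_simp
    ring

/-- A function on `ℤ` with polynomial differences is polynomial. -/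
theorem exists_polynomial_of_diff (f : ℤ → ℚ) (Q : Polynomial ℚ)
    (h : ∀ n : ℤ, f (n + 1) - f n = Q.eval (n : ℚ)) : ∃ P : Polynomial ℚ, ∀ n : ℤ, f n = P.eval (n : ℚ) := by
  obtain ⟨P, hP⟩ := exists_antidiff Q
  refine ⟨P + Polynomial.C (f 0 - P.eval 0), fun n => ?_⟩
  simp only [Polynomial.eval_add, Polynomial.eval_C]
  induction n using Int.induction_on with
  | zero => simp
  | succ k ih =>
    have := h (k : ℤ)
    have := hP ((k : ℤ) : ℚ)
    push_cast at *
    linarith
  | pred k ih =>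
    have h1 := h (-(k : ℤ) - 1)
    have h2 := hP ((-(k : ℤ) - 1 : ℤ) : ℚ)
    push_cast at *
    ring_nf at *
    linarith

theorem isZero_of_support_empty {X : Scheme.{u}} {F : X.Modules} (h : ∀ x, x ∉ CohB1.support F) : IsZero F := by
  rw [IsZero.iff_id_eq_zero]
  refine Scheme.Modules.hom_ext _ _ fun U => AddCommGrpCat.ext fun s => ?_
  have hs : (show Γ(F, U) from s) = 0 := QCoh.section_eq_zero_of_germ F _ fun x hx =>
    @Subsingleton.elim _ (QCoh.stalk_subsingleton_of_notMem (h x)) _ _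
  simpa using hs

/-- A map splits into two short exact sequences through its image. -/
theorem exists_split {C : Type*} [Category C] [Abelian C] {F G : C} (f : F ⟶ G) :
    ∃ (I : C) (a : F ⟶ I) (b : I ⟶ G) (w₁ : kernel.ι f ≫ a = 0) (w₂ : b ≫ cokernel.π f = 0),
      (ShortComplex.mk _ _ w₁).ShortExact ∧ (ShortComplex.mk _ _ w₂).ShortExact ∧
        Nonempty (cokernel (kernel.ι f) ≅ I) := by
  refine ⟨Abelian.image f, Abelian.factorThruImage f, Abelian.image.ι f,
    (cancel_mono (Abelian.image.ι f)).1 (by simp), kernel.condition _, ?_, ?_, ⟨Abelian.coimageIsoImage f⟩⟩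
  · refine { exact := ShortComplex.exact_of_f_is_kernel _ ?_ }
    exact isKernelOfComp (Abelian.image.ι f) f (kernelIsKernel f) _ (Abelian.image.fac f)
  · exact { exact := ShortComplex.exact_of_f_is_kernel _ (kernelIsKernel (cokernel.π f)) }

variable {A : Type u} [CommRing A] {r : ℕ} {X : Scheme.{u}} (i : X ⟶ CohB1.ProjSpace r A)

/-- `F(n)`. -/
abbrev tw (n : ℤ) : X.Modules ⥤ X.Modules := Euler.tF (Oi i n)

variable (A) in
/-- The Euler characteristic in degrees `≤ r`. -/
def chi [X.Over (Spec (CommRingCat.of A))] (r : ℕ) (F : X.Modules) : ℚ :=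
  (Finset.range (r + 1)).sum fun j => (-1 : ℚ) ^ j * ((Module.length A (Coh.HH X F j)).toNat : ℚ)

variable [X.Over (Spec (CommRingCat.of A))]

theorem chi_of_iso {F G : X.Modules} (e : F ≅ G) : chi A r F = chi A r G :=
  Finset.sum_congr rfl fun j _ => by rw [(Euler.hhEquiv (A := A) e j).length_eq]

theorem chi_of_isZero {F : X.Modules} (h : IsZero F) : chi A r F = 0 :=
  Finset.sum_eq_zero fun j _ => by
    haveI := Cohom.subsingleton_HH_of_isZero h j
    simp [Module.length_eq_zero]

section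

variable [IsClosedImmersion i] (hi : i ≫ CohB1.ProjSpace.toSpec r A = X ↘ Spec (CommRingCat.of A))

include hi in
theorem isProper : IsProper (X ↘ Spec (CommRingCat.of A)) := by
  haveI := Chow.isProper_toSpec r A
  rw [← hi]; infer_instance

include i in
/-- A closed subscheme of `P^r` is covered by `r + 1` affine opens. -/
theorem subsingleton_HH_of_lt (M : X.Modules) [M.IsQuasicoherent] {q : ℕ} (hq : r < q) :
    Subsingleton (Coh.HH X M q) := by
  haveI := Chow.isProper_toSpec r A
  haveI : X.IsSeparated :=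
    ⟨by
      rw [show terminal.from X = (i ≫ CohB1.ProjSpace.toSpec r A) ≫ terminal.from _ from Subsingleton.elim _ _]
      infer_instance⟩
  let U : Fin (r + 1) → X.Opens := fun j =>
    i ⁻¹ᵁ Proj.basicOpen (CohB1.polyGrading r A) (MvPolynomial.X j)
  have h := Cohom.vanishFrom_iSup M IsAffineOpen (fun _ h => h) (fun _ _ h h' => IsAffineOpen.inf h h') (r + 1) U
    fun j => (Proj.isAffineOpen_basicOpen _ _ (Ample.ProjMap.X_mem j) one_pos).preimage i
  rw [show (⨆ j, U j) = ⊤ from eq_top_iff.2 fun x _ => by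
    obtain ⟨j, hj⟩ := Opens.mem_iSup.1 ((Ample.ProjMap.iSup_basicOpen_X r A).ge (Opens.mem_top (i x)))
    exact Opens.mem_iSup.2 ⟨j, hj⟩] at h
  exact h.subsingleton_HH hq

theorem tw_shortExact (n : ℤ) {S : ShortComplex X.Modules} (hS : S.ShortExact) : (S.map (tw i n)).ShortExact :=
  OX.tensor_map_shortExact
    (OX.flat_of_isFinLocFree (Euler.isFinLocFree_of_isInvertible (SerrePn27.isInvertible_Oi i n))) hS

theorem nonempty_tw_tw (F : X.Modules) {a b c : ℤ} (h : a + b = c) :
    Nonempty ((tw i b).obj ((tw i a).obj F) ≅ (tw i c).obj F) := by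
  obtain ⟨g⟩ := SerrePn27.nonempty_Oi_add i h
  exact ⟨OX.tensorAssoc F (Oi i a) (Oi i b) ≪≫ Ample.LineData.tensorModMapIso (Iso.refl F) g⟩

variable [IsArtinianRing A]

include hi in
theorem isLocallyNoetherian : IsLocallyNoetherian X := by
  haveI := isProper i hi
  exact LocallyOfFiniteType.isLocallyNoetherian (X ↘ Spec (CommRingCat.of A))

include hi in
theorem isCoh_tw (n : ℤ) {F : X.Modules} (hF : Coh.IsCoh F) : Coh.IsCoh ((tw i n).obj F) := by
  haveI := isLocallyNoetherian i hi
  exact Euler.isCoh_tF hF (Euler.isFinLocFree_of_isInvertible (SerrePn27.isInvertible_Oi i n))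

include hi in
theorem chi_additive {S : ShortComplex X.Modules} (hS : S.ShortExact) (h₁ : Coh.IsCoh S.X₁)
    (h₂ : Coh.IsCoh S.X₂) (h₃ : Coh.IsCoh S.X₃) : chi A r S.X₂ = chi A r S.X₁ + chi A r S.X₃ := by
  haveI := isProper i hi
  haveI := h₁.1
  haveI := h₂.1
  haveI := h₃.1
  have h := Groth.Agent.S2420.result A X S hS h₁ h₂ h₃ r fun q hq =>
    ⟨subsingleton_HH_of_lt i _ hq, subsingleton_HH_of_lt i _ hq, subsingleton_HH_of_lt i _ hq⟩
  unfold chi
  exact_mod_cast h

include hi in
theorem chi_tw_additive (n : ℤ) (S : ShortComplex X.Modules) (hS : S.ShortExact) (h₁ : Coh.IsCoh S.X₁)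
    (h₂ : Coh.IsCoh S.X₂) (h₃ : Coh.IsCoh S.X₃) :
    chi A r ((tw i n).obj S.X₂) = chi A r ((tw i n).obj S.X₁) + chi A r ((tw i n).obj S.X₃) :=
  chi_additive (S := S.map (tw i n)) i hi (tw_shortExact i n hS) (isCoh_tw i hi n (F := S.X₁) h₁)
    (isCoh_tw i hi n (F := S.X₂) h₂) (isCoh_tw i hi n (F := S.X₃) h₃)

include hi in
/-- The two ends of a map between twisted modules. -/
theorem chi_sub_chi (n : ℤ) {F G : X.Modules} (f : F ⟶ G) (hF : Coh.IsCoh F) (hG : Coh.IsCoh G) :
    chi A r ((tw i n).obj G) - chi A r ((tw i n).obj F) =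
      chi A r ((tw i n).obj (cokernel f)) - chi A r ((tw i n).obj (kernel f)) := by
  haveI := isLocallyNoetherian i hi
  obtain ⟨I, a, b, w₁, w₂, hS₁, hS₂, hIiso⟩ := exists_split f
  have hK := QCoh.isCoh_kernel f hF hG
  have hC := QCoh.isCoh_cokernel f hF hG
  have hI : Coh.IsCoh I := QCoh.isCoh_of_iso hIiso.some (QCoh.isCoh_cokernel (kernel.ι f) hK hF)
  have e₁ :=
    chi_tw_additive i hi n (ShortComplex.mk _ _ w₁) hS₁ hK hF hI
  have e₂ :=
    chi_tw_additive i hi n (ShortComplex.mk _ _ w₂) hS₂ hI hG hC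
  dsimp only at e₁ e₂
  linarith

omit [IsArtinianRing A] [IsClosedImmersion i] in
/-- Multiplications by the coordinates are isomorphisms on opens which cover. -/
theorem exists_cover_maps :
    ∃ U : Fin (r + 1) → X.Opens, (∀ x, ∃ j, x ∈ U j) ∧ ∀ (F : X.Modules) (j : Fin (r + 1)),
      ∃ f : F ⟶ (tw i 1).obj F, ∀ x ∈ U j, Function.Bijective (QCoh.stalkLin f x) := by
  obtain ⟨c, ⟨e⟩⟩ := Ample.exists_cocycle (SerrePn27.isInvertible_Oi i 1)
  have hcov := c.iSup_locus_of_generatedBy e (Ample.ProjMap.pullCoord i) (Algz56.generatedBy_pullCoord i)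
  refine ⟨fun j => c.locus (show c.sect 1 ⊤ from e.hom.app ⊤ (Ample.ProjMap.pullCoord i j)),
    fun x => Opens.mem_iSup.1 (hcov.ge (Opens.mem_top x)), fun F j => ?_⟩
  let a : c.sect 1 ⊤ := e.hom.app ⊤ (Ample.ProjMap.pullCoord i j)
  have hτ : Kodaira.IsoOn (c.locus a) (c.hom a) :=
    (NatIso.isIso_map_iff (Scheme.Modules.restrictFunctorIsoPullback (c.locus a).ι) (c.hom a)).1
      (c.isIso_restrict_hom a le_rfl)
  exact ⟨(Euler.tFUnitIso F).inv ≫ ((DCoh.tensorBi (X := X)).obj F).map (c.hom a ≫ e.inv),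
    fun x hx => ((Kodaira.isoOn_of_iso _ _).comp
      ((hτ.comp (Kodaira.isoOn_of_iso _ _)).tensor_left F)).stalk_bijective hx⟩

include hi in
theorem exists_hilbertPolynomial {F : X.Modules} (hF : Coh.IsCoh F) :
    ∃ P : Polynomial ℚ, ∀ n : ℤ, chi A r ((tw i n).obj F) = P.eval (n : ℚ) := by
  haveI := isLocallyNoetherian i hi
  obtain ⟨U, hcov, hmap⟩ := exists_cover_maps i
  suffices key : ∀ S : Finset (Fin (r + 1)), ∀ G : X.Modules, Coh.IsCoh G →
      (∀ j, j ∉ S → ∀ x ∈ U j, x ∉ CohB1.support G) →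
      ∃ P : Polynomial ℚ, ∀ n : ℤ, chi A r ((tw i n).obj G) = P.eval (n : ℚ) from
    key Finset.univ F hF fun j hj => absurd (Finset.mem_univ j) hj
  intro S
  induction S using Finset.induction_on with
  | empty =>
    intro G _ hsupp
    refine ⟨0, fun n => ?_⟩
    rw [chi_of_isZero ((tw i n).map_isZero (isZero_of_support_empty fun x => ?_)), Polynomial.eval_zero]
    obtain ⟨j, hj⟩ := hcov x
    exact hsupp j (Finset.notMem_empty j) x hj
  | insert j₀ S hj₀ ih =>
    intro G hG hsupp
    obtain ⟨f, hf⟩ := hmap G j₀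
    have hG1 := isCoh_tw i hi 1 hG
    have hsK : ∀ j, j ∉ S → ∀ x ∈ U j, x ∉ CohB1.support (kernel f) := fun j hj x hx => by
      rcases eq_or_ne j j₀ with rfl | hne
      · exact QCoh.notMem_support_kernel_of_injective f (hf x hx).1
      · exact fun h => hsupp j (by simp [hne, hj]) x hx (QCoh.support_subset_of_mono (kernel.ι f) h)
    have hsC : ∀ j, j ∉ S → ∀ x ∈ U j, x ∉ CohB1.support (cokernel f) := fun j hj x hx => by
      rcases eq_or_ne j j₀ with rfl | hne
      · exact QCoh.notMem_support_cokernel_of_surjective f (hf x hx).2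
      · exact fun h => hsupp j (by simp [hne, hj]) x hx (CMReg.support_tensorMod_subset G (Oi i 1)
          (SerrePn27.isInvertible_Oi i 1) (QCoh.support_subset_of_epi (cokernel.π f) h))
    obtain ⟨PK, hPK⟩ := ih (kernel f) (QCoh.isCoh_kernel f hG hG1) hsK
    obtain ⟨PC, hPC⟩ := ih (cokernel f) (QCoh.isCoh_cokernel f hG hG1) hsC
    refine exists_polynomial_of_diff (fun n => chi A r ((tw i n).obj G)) (PC - PK) fun n => ?_
    obtain ⟨g⟩ := nonempty_tw_tw i G (a := 1) (b := n) (c := n + 1) (by ring)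
    rw [← chi_of_iso g, chi_sub_chi i hi n f hG hG1, hPC, hPK, Polynomial.eval_sub]

include hi in
/-- Eventually only the global sections contribute. -/
theorem exists_chi_eq_length {F : X.Modules} (hF : Coh.IsCoh F) :
    ∃ N : ℤ, ∀ n : ℤ, N ≤ n → ∀ p : ℕ, Subsingleton (Coh.HH X ((tw i n).obj F) (p + 1)) := by
  obtain ⟨d, hd⟩ := SerrePn27.exists_twist_vanish i hi hF
  exact ⟨d, fun n hn => hd n hn⟩

end

end GrothLib.HilbArt9
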